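import Groth.Prelude.Def_EtAcyc
import Groth.Agent.EtpbcB.HRel
import Groth.Agent.Etrest.IsoInv
import Groth.Agent.Etcore.Torsion

/-!
# Composition of `n`-acyclic morphisms

* `isLTorsion_iff_stalk`, `isLTorsion_pull`;
* `compN_comp_iff`: if `CompN a L n`, then `CompN b L n ↔ CompN (a ≫ b) L n`;
* `compN_iso_comp`: `CompN (e ≫ a) L n ↔ CompN a L n` for an isomorphism `e`;
* `isIso_unit_comp_iff`: same for units on sheaves of sets;
* `isAcyclicN_comp_iff`, `isZeroAcyclic_comp_iff`.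
-/

set_option autoImplicit false

universe u

open CategoryTheory CategoryTheory.Limits AlgebraicGeometry Opposite

namespace Groth.Agent.Etbc.H232.AcycComp

open EtAcyc

variable {X Y Z : Scheme.{u}}

theorem isLTorsion_iff_stalk (L : Set ℕ) (F : EtCoh.Ab X) : IsLTorsion L F ↔
    ∀ (Ω : Type u) [Field Ω] [IsSepClosed Ω] (ξ : Spec (CommRingCat.of Ω) ⟶ X)
      (t : (EtCoh.stalk ξ).obj F), ∃ n : ℕ, PrimesIn L n ∧ n • t = 0 :=
  Groth.Agent.Etcore.Torsion.local_iff_stalk (fun n => PrimesIn L n) F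

/-- The inverse image of an `L`-torsion sheaf is `L`-torsion. -/
theorem isLTorsion_pull (L : Set ℕ) (f : X ⟶ Y) (F : EtCoh.Ab Y) (hF : IsLTorsion L F) :
    IsLTorsion L ((EtCoh.pull f).obj F) := by
  rw [isLTorsion_iff_stalk] at hF ⊢
  exact Groth.Agent.Etcore.Torsion.stalk_prop_pull _ f F hF

/-- `HpullVia` is `Hpull` followed by an isomorphism. -/
theorem HpullVia_eq_comp (f : X ⟶ Y) (t : Y ⟶ Z) (f₀ : X ⟶ Z) (w : f ≫ t = f₀)
    [PreservesFiniteLimits (EtCoh.pull f)] (G : EtCoh.Ab Z) (p : ℕ) :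
    ∃ e : EtCoh.H X ((EtCoh.pull f).obj ((EtCoh.pull t).obj G)) p → EtCoh.H X ((EtCoh.pull f₀).obj G) p,
      Function.Bijective e ∧
      (EtCore.HpullVia f t f₀ w G p : _ → _) = e ∘ (EtCore.Hpull f ((EtCoh.pull t).obj G) p : _ → _) :=
  ⟨((EtCoh.HF X p).map (((EtCore.pullComp f t).symm ≪≫ EtCore.pullCongr w).app G).hom).hom,
    ConcreteCategory.bijective_of_isIso ((EtCoh.HF X p).map
      (((EtCore.pullComp f t).symm ≪≫ EtCore.pullCongr w).app G).hom), rfl⟩

/-- The comparison condition for a composition. -/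
theorem compN_comp_iff (a : X ⟶ Y) (b : Y ⟶ Z) (c : X ⟶ Z) (w : a ≫ b = c) {L : Set ℕ} {n : ℕ}
    (ha : CompN a L n) : CompN b L n ↔ CompN c L n := by
  have key : ∀ (F : EtCoh.Ab Z), IsLTorsion L F →
      (∀ q ≤ n, (Function.Bijective (EtCore.Hpull b F q) ↔ Function.Bijective (EtCore.Hpull c F q))) ∧
      (Function.Injective (EtCore.Hpull b F (n + 1)) ↔ Function.Injective (EtCore.Hpull c F (n + 1))) := by
    intro F hF
    have h1 := ha ((EtCoh.pull b).obj F) (isLTorsion_pull L b F hF)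
    have e : ∀ p, (EtCore.Hpull c F p : _ → _) =
        (EtCore.HpullVia a b c w F p : _ → _) ∘ (EtCore.Hpull b F p : _ → _) := fun p =>
      funext fun ξ => (EtpbcB.HRel.Hpull_comp a b c w F p ξ).symm
    refine ⟨fun q hq => ?_, ?_⟩
    · obtain ⟨k, hk, he⟩ := HpullVia_eq_comp a b c w F q
      rw [e q, he]
      have h2 : Function.Bijective (k ∘ (EtCore.Hpull a ((EtCoh.pull b).obj F) q : _ → _)) :=
        hk.comp (h1.1 q hq)
      exact (Function.Bijective.of_comp_iff' h2 _).symm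
    · obtain ⟨k, hk, he⟩ := HpullVia_eq_comp a b c w F (n + 1)
      rw [e (n + 1), he]
      have h2 : Function.Injective (k ∘ (EtCore.Hpull a ((EtCoh.pull b).obj F) (n + 1) : _ → _)) :=
        hk.1.comp h1.2
      exact (Function.Injective.of_comp_iff h2 _).symm
  constructor
  · intro hb F hF _
    obtain ⟨h1, h2⟩ := hb F hF
    exact ⟨fun q hq => ((key F hF).1 q hq).1 (h1 q hq), (key F hF).2.1 h2⟩
  · intro hb F hF _
    obtain ⟨h1, h2⟩ := hb F hF
    exact ⟨fun q hq => ((key F hF).1 q hq).2 (h1 q hq), (key F hF).2.2 h2⟩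

theorem compN_of_isIso (e : X ⟶ Y) [IsIso e] (L : Set ℕ) (n : ℕ) : CompN e L n := fun F _ _ =>
  ⟨fun q _ => Etrest.IsoInv.bijective_Hpull e F q, (Etrest.IsoInv.bijective_Hpull e F (n + 1)).1⟩

theorem compN_iso_comp (e : X ⟶ Y) [IsIso e] (b : Y ⟶ Z) (c : X ⟶ Z) (w : e ≫ b = c) {L : Set ℕ} {n : ℕ} :
    CompN b L n ↔ CompN c L n :=
  compN_comp_iff e b c w (compN_of_isIso e L n)

section Sets

/-- The unit of the adjunction for a composition, up to an isomorphism. -/
theorem isIso_unit_iff (a : X ⟶ Y) (b : Y ⟶ Z) (c : X ⟶ Z) (w : a ≫ b = c) (F : EtDesc.Sh Z) :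
    IsIso ((EtDesc.adjSh c).unit.app F) ↔
      IsIso ((EtDesc.adjSh b).unit.app F ≫
        (EtDesc.pushSh b).map ((EtDesc.adjSh a).unit.app ((EtDesc.pullSh b).obj F))) := by
  subst w
  let adj := ((EtDesc.adjSh b).comp (EtDesc.adjSh a)).ofNatIsoRight (EtDesc.pushCompSh b a)
  have h1 := Adjunction.unit_leftAdjointUniq_hom_app (EtDesc.adjSh (a ≫ b)) adj F
  have h2 : adj.unit.app F = ((EtDesc.adjSh b).unit.app F ≫
        (EtDesc.pushSh b).map ((EtDesc.adjSh a).unit.app ((EtDesc.pullSh b).obj F))) ≫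
        (EtDesc.pushCompSh b a).hom.app _ := by
    simp [adj, Adjunction.ofNatIsoRight, Adjunction.comp_unit_app]
  constructor
  · intro h
    have h3 : IsIso (adj.unit.app F) := by
      rw [← h1]; infer_instance
    rw [h2] at h3
    exact IsIso.of_isIso_comp_right _ ((EtDesc.pushCompSh b a).hom.app _)
  · intro h
    have h3 : IsIso (adj.unit.app F) := by
      rw [h2]; infer_instance
    rw [← h1] at h3
    exact IsIso.of_isIso_comp_right ((EtDesc.adjSh (a ≫ b)).unit.app F)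
      ((EtDesc.pushSh (a ≫ b)).map (((EtDesc.adjSh (a ≫ b)).leftAdjointUniq adj).hom.app F))

/-- If the unit for `a` at `b⁻¹ F` is an isomorphism then the units for `b` and `a ≫ b` at `F` are isomorphisms
simultaneously. -/
theorem isIso_unit_comp_iff (a : X ⟶ Y) (b : Y ⟶ Z) (c : X ⟶ Z) (w : a ≫ b = c) (F : EtDesc.Sh Z)
    (ha : IsIso ((EtDesc.adjSh a).unit.app ((EtDesc.pullSh b).obj F))) :
    IsIso ((EtDesc.adjSh b).unit.app F) ↔ IsIso ((EtDesc.adjSh c).unit.app F) := by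
  rw [isIso_unit_iff a b c w F]
  constructor
  · intro h
    infer_instance
  · intro h
    exact IsIso.of_isIso_comp_right _
      ((EtDesc.pushSh b).map ((EtDesc.adjSh a).unit.app ((EtDesc.pullSh b).obj F)))

/-- Direct image of sheaves of sets along the identity. -/
noncomputable def pushShId (X : Scheme.{u}) : EtDesc.pushSh (𝟙 X) ≅ 𝟭 (EtDesc.Sh X) :=
  Functor.sheafPushforwardContinuousId' (F'' := EtCoh.bc (𝟙 X)) (EtpbcA.PullFLC.bcId X)
    (Type (u + 1)) X.smallEtaleTopology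

/-- Transport of direct image of sheaves of sets along an equality. -/
noncomputable def pushShCongr {f f' : X ⟶ Y} (h : f = f') : EtDesc.pushSh f ≅ EtDesc.pushSh f' :=
  eqToIso (by rw [h])

/-- Direct image along an isomorphism is an equivalence of categories. -/
noncomputable def pushShEquiv {A B : Scheme.{u}} (e : A ≅ B) : EtDesc.Sh A ≌ EtDesc.Sh B :=
  CategoryTheory.Equivalence.mk (EtDesc.pushSh e.hom) (EtDesc.pushSh e.inv)
    ((pushShId A).symm ≪≫ pushShCongr e.hom_inv_id.symm ≪≫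
      (EtDesc.pushCompSh e.inv e.hom).symm)
    (EtDesc.pushCompSh e.hom e.inv ≪≫ pushShCongr e.inv_hom_id ≪≫ pushShId B)

instance isEquivalence_pushSh {A B : Scheme.{u}} (f : A ⟶ B) [IsIso f] :
    (EtDesc.pushSh f).IsEquivalence :=
  inferInstanceAs (pushShEquiv (asIso f)).functor.IsEquivalence

instance isEquivalence_pullSh {A B : Scheme.{u}} (f : A ⟶ B) [IsIso f] :
    (EtDesc.pullSh f).IsEquivalence :=
  (EtDesc.adjSh f).isEquivalence_left_of_isEquivalence_right

theorem isIso_unit_of_isIso (e : X ⟶ Y) [IsIso e] (F : EtDesc.Sh Y) :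
    IsIso ((EtDesc.adjSh e).unit.app F) := inferInstance

end Sets

section Morphisms

variable (g : X ⟶ Y) (h : Y ⟶ Z)

/-- The identification of `V ×_Z X` with `(V ×_Z Y) ×_Y X`. -/
theorem exists_pasting (V : Z.Etale) :
    ∃ e : pullback V.hom (g ≫ h) ⟶ pullback ((EtCoh.bc h).obj V).hom g, IsIso e ∧
      e ≫ (prj g ((EtCoh.bc h).obj V) ≫ prj h V) = prj (g ≫ h) V := by
  refine ⟨(pullbackLeftPullbackSndIso V.hom h g).inv, Iso.isIso_inv _, ?_⟩
  exact pullbackLeftPullbackSndIso_inv_fst V.hom h g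

/-- If `g` is `n`-acyclic for `L`, then `h` is `n`-acyclic for `L` if and only if `g ≫ h` is. -/
theorem isAcyclicN_comp_iff {L : Set ℕ} {n : ℕ} (hg : IsAcyclicN g L n) :
    IsAcyclicN h L n ↔ IsAcyclicN (g ≫ h) L n := by
  refine forall_congr' fun V => ?_
  obtain ⟨e, he, w⟩ := exists_pasting g h V
  rw [← compN_iso_comp e _ _ w]
  exact compN_comp_iff _ _ _ rfl (hg ((EtCoh.bc h).obj V))

/-- If `g` is 0-acyclic, then `h` is 0-acyclic if and only if `g ≫ h` is. -/
theorem isZeroAcyclic_comp_iff (hg : IsZeroAcyclic g) :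
    IsZeroAcyclic h ↔ IsZeroAcyclic (g ≫ h) := by
  refine forall_congr' fun V => forall_congr' fun F => ?_
  obtain ⟨e, he, w⟩ := exists_pasting g h V
  rw [← isIso_unit_comp_iff e _ _ w F (isIso_unit_of_isIso e _)]
  exact isIso_unit_comp_iff _ _ _ rfl F (hg ((EtCoh.bc h).obj V) _)

end Morphisms

end Groth.Agent.Etbc.H232.AcycComp
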