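import Groth.Prelude.Def_EtAcyc
import Groth.Agent.Hensel.Exist
import Mathlib.FieldTheory.IsSepClosed

/-!
# Factorization of maps of strict henselizations

* `exists_field_factor`: a map `K → M` from a separable extension `K / k` to a separably closed field `M` over
  `k → l → M` factors through a separable closure `L` of `l`.
* `exists_above`: a map of local rings extends to given strict henselizations.
* `exists_factor`: for local maps `A → B → C`, a map of strict henselizations `R_A → R_C` over `A → C` factors through any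
  given strict henselization of `B`.
* `onStrictLocalizations_comp`, `onStrictLocalizations_of_comp`: consequences for `EtAcyc.OnStrictLocalizations`.
-/

set_option autoImplicit false

universe u

open CategoryTheory CategoryTheory.Limits AlgebraicGeometry Opposite

namespace Groth.Agent.Etbc.H232.SHFactor

open Polynomial

/-- Field-theoretic factorization through a separable closure. -/
theorem exists_field_factor {k l K L M : Type*} [Field k] [Field l] [Field K] [Field L] [Field M]
    [Algebra k K] [Algebra l L] [Algebra.IsSeparable k K] [hL : IsSepClosure l L] [IsSepClosed M]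
    (i : k →+* l) (j : l →+* M) (σ : K →+* M) (hσ : σ.comp (algebraMap k K) = j.comp i) :
    ∃ (ρ : K →+* L) (τ : L →+* M), ρ.comp (algebraMap k K) = (algebraMap l L).comp i ∧
      τ.comp (algebraMap l L) = j ∧ τ.comp ρ = σ := by
  let _ : Algebra l M := j.toAlgebra
  have := hL.separable
  have := hL.sep_closed
  let τ : L →ₐ[l] M := IsSepClosed.lift
  have hτ : τ.toRingHom.comp (algebraMap l L) = j := by
    ext x
    exact τ.commutes x
  have key : ∀ x : K, ∃ y : L, τ y = σ x := by
    intro x
    have hs : (minpoly k x).Separable := Algebra.IsSeparable.isSeparable k x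
    have hs2 : ((minpoly k x).map ((algebraMap l L).comp i)).Separable := hs.map
    have hsp : ((minpoly k x).map ((algebraMap l L).comp i)).Splits :=
      IsSepClosed.splits_of_separable _ hs2
    have h0 : (minpoly k x).map ((algebraMap l L).comp i) ≠ 0 := hs2.ne_zero
    have hm : (minpoly k x).map ((algebraMap l L).comp i) =
        ((((minpoly k x).map ((algebraMap l L).comp i)).roots.map (X - C ·)).prod) := by
      have hmonic : ((minpoly k x).map ((algebraMap l L).comp i)).Monic :=
        (minpoly.monic (Algebra.IsSeparable.isIntegral k x)).map _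
      exact hsp.eq_prod_roots_of_monic hmonic
    have hr : eval₂ (τ.toRingHom) (σ x) ((minpoly k x).map ((algebraMap l L).comp i)) = 0 := by
      rw [eval₂_map, ← RingHom.comp_assoc, hτ, ← hσ, ← eval₂_map, eval₂_hom]
      have : Polynomial.eval x ((minpoly k x).map (algebraMap k K)) = 0 := by
        rw [eval_map_algebraMap, minpoly.aeval]
      rw [this, map_zero]
    rw [hm, eval₂_eq_eval_map, Polynomial.map_multiset_prod, Polynomial.eval_multiset_prod,
      Multiset.prod_eq_zero_iff] at hr
    simp only [Multiset.mem_map, Multiset.map_map, Function.comp_apply] at hr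
    obtain ⟨y, -, hy⟩ := hr
    refine ⟨y, ?_⟩
    simp only [Polynomial.map_sub, map_X, map_C, eval_sub, eval_X, eval_C] at hy
    exact (sub_eq_zero.mp hy).symm
  choose r hr using key
  have hinj : Function.Injective τ := τ.toRingHom.injective
  let ρ : K →+* L :=
    { toFun := r
      map_one' := hinj (by rw [hr, map_one, map_one])
      map_mul' := fun a b => hinj (by rw [hr, map_mul, map_mul, hr, hr])
      map_zero' := hinj (by rw [hr, map_zero, map_zero])
      map_add' := fun a b => hinj (by rw [hr, map_add, map_add, hr, hr]) }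
  refine ⟨ρ, τ.toRingHom, ?_, hτ, ?_⟩
  · ext x
    apply hinj
    change τ (r (algebraMap k K x)) = τ (algebraMap l L (i x))
    rw [hr, τ.commutes]
    exact congr($hσ x)
  · ext x
    exact hr x

section Local

variable {A B C : Type u} [CommRing A] [IsLocalRing A] [CommRing B] [IsLocalRing B]
  [CommRing C] [IsLocalRing C]

theorem isLocalHom_of_residue {S T : Type u} [CommRing S] [IsLocalRing S] [CommRing T] [IsLocalRing T]
    (g : S →+* T) (τ : IsLocalRing.ResidueField S →+* IsLocalRing.ResidueField T)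
    (h : ∀ x : S, IsLocalRing.residue T (g x) = τ (IsLocalRing.residue S x)) : IsLocalHom g := by
  constructor
  intro x hx
  by_contra hc
  have h1 : IsLocalRing.residue S x = 0 := by
    rw [IsLocalRing.residue_eq_zero_iff]
    exact (IsLocalRing.mem_maximalIdeal x).2 hc
  have h2 := h x
  rw [h1, map_zero, IsLocalRing.residue_eq_zero_iff] at h2
  exact (IsLocalRing.mem_maximalIdeal (g x)).1 h2 hx

theorem map_residue_comp {R S T : Type u} [CommRing R] [IsLocalRing R] [CommRing S] [IsLocalRing S]
    [CommRing T] [IsLocalRing T] (f : R →+* S) (g : S →+* T) [IsLocalHom f] [IsLocalHom g]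
    [IsLocalHom (g.comp f)] :
    (IsLocalRing.ResidueField.map g).comp (IsLocalRing.ResidueField.map f) =
      IsLocalRing.ResidueField.map (g.comp f) := by
  exact (IsLocalRing.ResidueField.map_comp f g).symm

/-- A local homomorphism extends to strict henselizations. -/
theorem exists_above (φ : A →+* B) [IsLocalHom φ]
    (RA : Type u) [CommRing RA] [IsLocalRing RA] [Algebra A RA] [IsLocalHom (algebraMap A RA)]
    [hA : Hensel.IsStrictHenselization A RA]
    (RB : Type u) [CommRing RB] [IsLocalRing RB] [Algebra B RB] [IsLocalHom (algebraMap B RB)]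
    [hB : Hensel.IsStrictHenselization B RB] :
    ∃ ψ : RA →+* RB, IsLocalHom ψ ∧ ψ.comp (algebraMap A RA) = (algebraMap B RB).comp φ := by
  have := hB.henselian
  have := hB.isSepClosure.sep_closed
  have := hA.isSepClosure.separable
  have hl : IsLocalHom ((algebraMap B RB).comp φ) := RingHom.isLocalHom_comp _ _
  let _ : Algebra (IsLocalRing.ResidueField A) (IsLocalRing.ResidueField RB) :=
    (IsLocalRing.ResidueField.map ((algebraMap B RB).comp φ)).toAlgebra
  let τ : IsLocalRing.ResidueField RA →ₐ[IsLocalRing.ResidueField A] IsLocalRing.ResidueField RB :=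
    IsSepClosed.lift
  obtain ⟨ψ, ⟨h1, h2⟩, -⟩ := hA.universal RB ((algebraMap B RB).comp φ) τ.toRingHom (by
    ext x
    exact τ.commutes x)
  exact ⟨ψ, isLocalHom_of_residue ψ _ h2, h1⟩

/-- Factorization of a map of strict henselizations through an intermediate strict henselization. -/
theorem exists_factor (φ : A →+* B) [IsLocalHom φ] (φ' : B →+* C) [IsLocalHom φ']
    (RA : Type u) [CommRing RA] [IsLocalRing RA] [Algebra A RA] [IsLocalHom (algebraMap A RA)]
    [hA : Hensel.IsStrictHenselization A RA]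
    (RB : Type u) [CommRing RB] [IsLocalRing RB] [Algebra B RB] [IsLocalHom (algebraMap B RB)]
    [hB : Hensel.IsStrictHenselization B RB]
    (RC : Type u) [CommRing RC] [IsLocalRing RC] [Algebra C RC] [IsLocalHom (algebraMap C RC)]
    [hC : Hensel.IsStrictHenselization C RC]
    (ψ : RA →+* RC) [IsLocalHom ψ]
    (hψ : ψ.comp (algebraMap A RA) = (algebraMap C RC).comp (φ'.comp φ)) :
    ∃ (ψ₁ : RA →+* RB) (ψ₂ : RB →+* RC), IsLocalHom ψ₁ ∧ IsLocalHom ψ₂ ∧
      ψ₁.comp (algebraMap A RA) = (algebraMap B RB).comp φ ∧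
      ψ₂.comp (algebraMap B RB) = (algebraMap C RC).comp φ' ∧ ψ₂.comp ψ₁ = ψ := by
  have := hB.henselian
  have := hC.henselian
  have := hC.isSepClosure.sep_closed
  have := hA.isSepClosure.separable
  have := hB.isSepClosure
  have hl : IsLocalHom ((algebraMap B RB).comp φ) := RingHom.isLocalHom_comp _ _
  have hl' : IsLocalHom ((algebraMap C RC).comp φ') := RingHom.isLocalHom_comp _ _
  have hl'' : IsLocalHom (φ'.comp φ) := RingHom.isLocalHom_comp _ _
  have hl3 : IsLocalHom (ψ.comp (algebraMap A RA)) := RingHom.isLocalHom_comp _ _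
  have hl4 : IsLocalHom (((algebraMap C RC).comp φ').comp φ) := RingHom.isLocalHom_comp _ _
  obtain ⟨ρ, τ, hρ, hτ, hρτ⟩ := exists_field_factor (L := IsLocalRing.ResidueField RB)
    (IsLocalRing.ResidueField.map φ)
    (IsLocalRing.ResidueField.map ((algebraMap C RC).comp φ')) (IsLocalRing.ResidueField.map ψ) (by
      change (IsLocalRing.ResidueField.map ψ).comp (IsLocalRing.ResidueField.map (algebraMap A RA)) = _
      rw [map_residue_comp, map_residue_comp]
      congr 1)
  have hρ' : ρ.comp (IsLocalRing.ResidueField.map (algebraMap A RA)) =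
      IsLocalRing.ResidueField.map ((algebraMap B RB).comp φ) := by
    rw [← map_residue_comp φ (algebraMap B RB)]
    exact hρ
  obtain ⟨ψ₁, ⟨h1, h1'⟩, -⟩ := hA.universal RB ((algebraMap B RB).comp φ) ρ hρ'
  obtain ⟨ψ₂, ⟨h2, h2'⟩, -⟩ := hB.universal RC ((algebraMap C RC).comp φ') τ hτ
  have hcomp : (IsLocalRing.ResidueField.map ψ).comp
      (IsLocalRing.ResidueField.map (algebraMap A RA)) =
      IsLocalRing.ResidueField.map (ψ.comp (algebraMap A RA)) := map_residue_comp _ _
  obtain ⟨χ, -, hχ⟩ := hA.universal RC (ψ.comp (algebraMap A RA)) (IsLocalRing.ResidueField.map ψ) hcomp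
  refine ⟨ψ₁, ψ₂, isLocalHom_of_residue ψ₁ _ h1', isLocalHom_of_residue ψ₂ _ h2', h1, h2, ?_⟩
  rw [hχ ψ ⟨rfl, fun x => rfl⟩]
  apply hχ
  refine ⟨?_, fun x => ?_⟩
  · rw [RingHom.comp_assoc, h1, ← RingHom.comp_assoc, h2, RingHom.comp_assoc, hψ]
  · rw [RingHom.comp_apply, h2', h1', ← hρτ, RingHom.comp_apply]

end Local

section Schemes

variable {X Y Z : Scheme.{u}} (g : X ⟶ Y) (h : Y ⟶ Z)
variable (P Q R : ∀ ⦃X' Y' : Scheme.{u}⦄, (X' ⟶ Y') → Prop)

/-- If `P` for `a`, `Q` for `b` imply `R` for `a ≫ b`, then the same holds for the strict localizations. -/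
theorem onStrictLocalizations_comp
    (hPQR : ∀ ⦃X' Y' Z' : Scheme.{u}⦄ (a : X' ⟶ Y') (b : Y' ⟶ Z'), P a → Q b → R (a ≫ b))
    (hg : EtAcyc.OnStrictLocalizations g P) (hh : EtAcyc.OnStrictLocalizations h Q) :
    EtAcyc.OnStrictLocalizations (g ≫ h) R := by
  intro x RZ RX _ _ _ _ aZ lZ sZ aX lX sX aZX lZX hc
  obtain ⟨RY, _, _, _, _, hY, -⟩ :=
    Groth.Agent.Hensel.Exist.exists_isStrictHenselization (Y.presheaf.stalk (g.base x))
  have e1 : ((g ≫ h).stalkMap x).hom = (g.stalkMap x).hom.comp (h.stalkMap (g.base x)).hom := by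
    rw [Scheme.Hom.stalkMap_comp]
    rfl
  let aZ' : Algebra (Z.presheaf.stalk (h.base (g.base x))) RZ := aZ
  have lZ' : IsLocalHom (algebraMap (Z.presheaf.stalk (h.base (g.base x))) RZ) := lZ
  have sZ' : Hensel.IsStrictHenselization (Z.presheaf.stalk (h.base (g.base x))) RZ := sZ
  obtain ⟨ψ₁, ψ₂, l₁, l₂, c₁, c₂, c₃⟩ := exists_factor (A := Z.presheaf.stalk (h.base (g.base x)))
    (h.stalkMap (g.base x)).hom (g.stalkMap x).hom RZ RY RX (algebraMap RZ RX) (by
      rw [← e1]; exact hc)
  have k1 : Q (Spec.map (CommRingCat.ofHom ψ₁)) := by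
    let _ := ψ₁.toAlgebra
    exact hh (g.base x) RZ RY c₁
  have k2 : P (Spec.map (CommRingCat.ofHom ψ₂)) := by
    let _ := ψ₂.toAlgebra
    exact hg x RY RX c₂
  have k3 := hPQR _ _ k2 k1
  rw [← Spec.map_comp, ← CommRingCat.ofHom_comp, c₃] at k3
  exact k3

/-- If `g` is surjective, and `P` for `a`, `Q` for `a ≫ b` imply `R` for `b`, then the same holds for the strict
localizations. -/
theorem onStrictLocalizations_of_comp (hs : Function.Surjective g.base)
    (hPQR : ∀ ⦃X' Y' Z' : Scheme.{u}⦄ (a : X' ⟶ Y') (b : Y' ⟶ Z'), P a → Q (a ≫ b) → R b)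
    (hg : EtAcyc.OnStrictLocalizations g P) (hgh : EtAcyc.OnStrictLocalizations (g ≫ h) Q) :
    EtAcyc.OnStrictLocalizations h R := by
  intro y RZ RY _ _ _ _ aZ lZ sZ aY lY sY aZY lZY hc
  obtain ⟨x, rfl⟩ := hs y
  obtain ⟨RX, _, _, _, _, hX, -⟩ :=
    Groth.Agent.Hensel.Exist.exists_isStrictHenselization (X.presheaf.stalk x)
  obtain ⟨ψ, l, c⟩ := exists_above (g.stalkMap x).hom RY RX
  have e1 : ((g ≫ h).stalkMap x).hom = (g.stalkMap x).hom.comp (h.stalkMap (g.base x)).hom := by
    rw [Scheme.Hom.stalkMap_comp]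
    rfl
  have k2 : P (Spec.map (CommRingCat.ofHom ψ)) := by
    let _ := ψ.toAlgebra
    exact hg x RY RX c
  have k3 : Q (Spec.map (CommRingCat.ofHom (ψ.comp (algebraMap RZ RY)))) := by
    let _ := (ψ.comp (algebraMap RZ RY)).toAlgebra
    have : IsLocalHom (algebraMap RZ RX) := RingHom.isLocalHom_comp ψ (algebraMap RZ RY)
    let aZ' : Algebra (Z.presheaf.stalk ((g ≫ h).base x)) RZ := aZ
    have lZ' : IsLocalHom (algebraMap (Z.presheaf.stalk ((g ≫ h).base x)) RZ) := lZ
    have sZ' : Hensel.IsStrictHenselization (Z.presheaf.stalk ((g ≫ h).base x)) RZ := sZ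
    refine hgh x RZ RX ?_
    rw [e1]
    change ψ.comp ((algebraMap RZ RY).comp (algebraMap (Z.presheaf.stalk (h.base (g.base x))) RZ)) = _
    refine (congrArg ψ.comp hc).trans ?_
    rw [← RingHom.comp_assoc, c]
    rfl
  rw [CommRingCat.ofHom_comp, Spec.map_comp] at k3
  exact hPQR _ _ k2 k3

end Schemes

end Groth.Agent.Etbc.H232.SHFactor
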